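import Groth.Prelude.Def_LefPen
import Mathlib

/-!
Coefficient coordinates on tuples of forms of degrees `1, …, d`.
-/

set_option autoImplicit false
universe u

namespace Groth.Agent.H7HypSeq
open MvPolynomial

variable (m d : ℕ)

/-- index of a coefficient: which form, which monomial. -/
abbrev Idx : Type := Σ j : Fin d, {γ : Fin (m + 1) →₀ ℕ // γ.degree = j.1 + 1}

instance finite_degree_eq (n : ℕ) : Finite {γ : Fin (m + 1) →₀ ℕ // γ.degree = n} :=
  Set.Finite.to_subtype (s := {γ : Fin (m + 1) →₀ ℕ | γ.degree = n})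
    ((Finset.univ.finsuppAntidiag n).finite_toSet.subset fun γ hγ => by
      simp only [Finset.mem_coe, Finset.mem_finsuppAntidiag]
      refine ⟨?_, Finset.subset_univ _⟩
      rw [← hγ, Finsupp.degree_eq_sum])

noncomputable instance (n : ℕ) : Fintype {γ : Fin (m + 1) →₀ ℕ // γ.degree = n} :=
  Fintype.ofFinite _

/-- the form with given coefficients. -/
noncomputable def formOf {R : Type} [CommSemiring R] (c : Idx m d → R) (j : Fin d) :
    MvPolynomial (Fin (m + 1)) R :=
  ∑ γ : {γ : Fin (m + 1) →₀ ℕ // γ.degree = j.1 + 1}, monomial γ.1 (c ⟨j, γ⟩)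

theorem formOf_isHomogeneous {R : Type} [CommSemiring R] (c : Idx m d → R) (j : Fin d) :
    (formOf m d c j).IsHomogeneous (j.1 + 1) :=
  IsHomogeneous.sum _ _ _ fun γ _ => isHomogeneous_monomial _ γ.2

theorem map_formOf {R S : Type} [CommSemiring R] [CommSemiring S] (f : R →+* S)
    (c : Idx m d → R) (j : Fin d) :
    MvPolynomial.map f (formOf m d c j) = formOf m d (f ∘ c) j := by
  simp [formOf, map_sum, map_monomial]

/-- tuples of forms. -/
abbrev Tup (k : Type) [Field k] : Type := (j : Fin d) → LefPen.Form m k (j.1 + 1)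

variable {m d} {k : Type} [Field k]

/-- the coefficient vector of a tuple. -/
def coord (G : Tup m d k) : Idx m d → k := fun i => coeff i.2.1 (G i.1).1

theorem coeff_formOf (c : Idx m d → k) (j : Fin d) (γ : Fin (m + 1) →₀ ℕ)
    (hγ : γ.degree = j.1 + 1) : coeff γ (formOf m d c j) = c ⟨j, ⟨γ, hγ⟩⟩ := by
  classical
  simp only [formOf, coeff_sum, coeff_monomial]
  rw [Finset.sum_eq_single (⟨γ, hγ⟩ : {γ : Fin (m + 1) →₀ ℕ // γ.degree = j.1 + 1})]
  · simp
  · intro b _ hb
    rw [if_neg]
    exact fun h => hb (Subtype.ext h)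
  · simp

theorem formOf_coord (G : Tup m d k) (j : Fin d) : formOf m d (coord G) j = (G j).1 := by
  ext γ
  by_cases hγ : γ.degree = j.1 + 1
  · rw [coeff_formOf _ _ _ hγ]; rfl
  · rw [(formOf_isHomogeneous m d _ j).coeff_eq_zero hγ,
      MvPolynomial.IsHomogeneous.coeff_eq_zero (show (G j).1.IsHomogeneous _ from (G j).2) hγ]

/-- tuples ≃ coefficient vectors. -/
noncomputable def coordEquiv (m d : ℕ) (k : Type) [Field k] : Tup m d k ≃ₗ[k] (Idx m d → k) where
  toFun := coord
  invFun c j := ⟨formOf m d c j, formOf_isHomogeneous m d c j⟩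
  map_add' G G' := by ext i; simp [coord]
  map_smul' a G := by ext i; simp [coord]
  left_inv G := funext fun j => Subtype.ext (formOf_coord G j)
  right_inv c := funext fun i => coeff_formOf c i.1 i.2.1 i.2.2

/-- the coordinate basis. -/
noncomputable def coordBasis (m d : ℕ) (k : Type) [Field k] :
    Module.Basis (Idx m d) k (Tup m d k) :=
  Module.Basis.ofEquivFun (coordEquiv m d k)

@[simp]
theorem coordBasis_repr (G : Tup m d k) (i : Idx m d) :
    (coordBasis m d k).repr G i = coord G i := by
  simp [coordBasis, coordEquiv]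

end Groth.Agent.H7HypSeq
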