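import Groth.Agent.H7HypSeq.Main
import Groth.Agent.H25Param.PolyFun
import Groth.Prelude.Def_W4c2ratcurvhypCodim

/-!
Polynomial functions on tuples of forms are polynomials in the coefficients.
-/

set_option autoImplicit false
universe u

namespace Groth.Agent.H7HypSeq
open MvPolynomial

theorem codimGE_badSet {m d : ℕ} (hd : d + 2 ≤ m) :
    LefPen.CodimGE ℂ (badSet m d) (m + 1) := by
  classical
  let b := coordBasis m d ℂ
  let Θ0 : MvPolynomial (Idx m d) ℂ →ₐ[ℂ] (Tup m d ℂ → ℂ) :=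
    aeval fun i G => coord G i
  have hΘ0 : ∀ P G, Θ0 P G = eval (coord G) P := by
    intro P G
    show Pi.evalAlgHom ℂ (fun _ : Tup m d ℂ => ℂ) G (Θ0 P) = _
    rw [← AlgHom.comp_apply]
    show _ = aeval (coord G) P
    congr 1
    exact MvPolynomial.algHom_ext fun i => by simp [Θ0]
  have hrange : ∀ P, Θ0 P ∈ LefPen.polyFunAlg ℂ (Tup m d ℂ) := by
    intro P
    rw [show Θ0 P = fun G => eval (fun i => b.coord i G) P by
      funext G
      rw [hΘ0]
      congr 2]
    exact H25Param.isPolyFun_eval (fun i => b.coord i) P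
  let Θ : MvPolynomial (Idx m d) ℂ →ₐ[ℂ] ↥(LefPen.polyFunAlg ℂ (Tup m d ℂ)) :=
    Θ0.codRestrict _ hrange
  have hbij : Function.Bijective Θ := by
    refine ⟨fun P Q h => MvPolynomial.funext fun c => ?_, fun f => ?_⟩
    · have := congrArg (fun F : ↥(LefPen.polyFunAlg ℂ (Tup m d ℂ)) => F.1 ((coordEquiv m d ℂ).symm c)) h
      simp only [Θ, AlgHom.coe_codRestrict] at this
      rw [hΘ0, hΘ0] at this
      rwa [show coord ((coordEquiv m d ℂ).symm c) = c from (coordEquiv m d ℂ).apply_symm_apply c]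
        at this
    · obtain ⟨P, hP⟩ := H25Param.exists_eval_of_isPolyFun b f.2
      refine ⟨P, Subtype.ext (funext fun G => ?_)⟩
      simp only [Θ, AlgHom.coe_codRestrict]
      rw [hΘ0, hP G]
      congr 2
  let e := AlgEquiv.ofBijective Θ hbij
  have hcomap : (LefPen.vanishingFun ℂ (badSet m d)).comap e.toRingEquiv = badIdeal m d := by
    ext P
    rw [Ideal.mem_comap, mem_badIdeal]
    show (∀ G ∈ badSet m d, Θ0 P G = 0) ↔ _
    simp only [hΘ0]
  show ((m + 1 : ℕ) : ℕ∞) ≤ (LefPen.vanishingFun ℂ (badSet m d)).height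
  rw [← RingEquiv.height_comap e.toRingEquiv, hcomap]
  exact height_badIdeal hd

end Groth.Agent.H7HypSeq
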