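import Groth.Agent.H8Props.FieldDimHeight
import Mathlib

/-!
Primes over homogeneous ideals of a polynomial ring, and cutting by general linear forms with
coefficients in an infinite subfield.
-/

set_option autoImplicit false
universe u

namespace Groth.Agent.H7HypSeq
open MvPolynomial
open Groth.Agent.H8Props

attribute [local instance] MvPolynomial.gradedAlgebra

variable {σ : Type} [Fintype σ] {F : Type} [Field F]

/-- the irrelevant ideal. -/
noncomputable abbrev irr (σ : Type) (F : Type) [Field F] : Ideal (MvPolynomial σ F) :=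
  RingHom.ker (constantCoeff : MvPolynomial σ F →+* F)

omit [Fintype σ] in
instance irr_isMaximal : (irr σ F).IsMaximal :=
  RingHom.ker_isMaximal_of_surjective _ fun a => ⟨C a, by simp⟩

omit [Fintype σ] in
theorem le_irr_of_mem_minimalPrimes {s : Set (MvPolynomial σ F)}
    (hs : ∀ f ∈ s, ∃ i, f.IsHomogeneous i) {P : Ideal (MvPolynomial σ F)}
    (hP : P ∈ (Ideal.span s).minimalPrimes) : P ≤ irr σ F := by
  classical
  haveI := hP.1.1
  have hJ : (Ideal.span s).IsHomogeneous (homogeneousSubmodule σ F) :=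
    Ideal.homogeneous_span _ _ fun f hf => (hs f hf).imp fun i hi => hi
  have h1 : Ideal.span s ≤ (P.homogeneousCore (homogeneousSubmodule σ F)).toIdeal := by
    rw [← hJ.toIdeal_homogeneousCore_eq_self]
    exact Ideal.homogeneousCore_mono (homogeneousSubmodule σ F) hP.1.2
  have h2 := hP.2 ⟨Ideal.IsPrime.homogeneousCore hP.1.1, h1⟩
    (Ideal.toIdeal_homogeneousCore_le _ _)
  intro f hf
  by_contra hne
  have h3 : homogeneousComponent 0 f ∈ (P.homogeneousCore (homogeneousSubmodule σ F)).toIdeal := by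
    have := (P.homogeneousCore (homogeneousSubmodule σ F)).isHomogeneous 0 (h2 hf)
    convert this using 1
    exact (decomposition.decompose'_apply f 0).symm
  rw [homogeneousComponent_zero] at h3
  refine hP.1.1.ne_top (Ideal.eq_top_of_isUnit_mem P (Ideal.toIdeal_homogeneousCore_le _ _ h3) ?_)
  exact (isUnit_iff_ne_zero.mpr hne).map C

/-- the ideal of linear forms with the coefficient vectors `a`. -/
noncomputable def linSet {k : Type} [Field k] [Algebra k F] {e : ℕ} (a : Fin e → σ → k) :
    Set (MvPolynomial σ F) :=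
  Set.range fun i => ∑ s, C (algebraMap k F (a i s)) * X s

theorem linSet_isHomogeneous {k : Type} [Field k] [Algebra k F] {e : ℕ} (a : Fin e → σ → k) :
    ∀ f ∈ (linSet a : Set (MvPolynomial σ F)), f.IsHomogeneous 1 := by
  rintro f ⟨i, rfl⟩
  refine IsHomogeneous.sum _ _ _ fun s _ => ?_
  exact isHomogeneous_C_mul_X _ _

theorem exists_linear_cut {k : Type} [Field k] [Infinite k] [Algebra k F] :
    ∀ (r : ℕ) (J : Ideal (MvPolynomial σ F)),
      (∀ P : Ideal (MvPolynomial σ F), P ∈ J.minimalPrimes → P ≤ irr σ F) →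
      (∀ s : Set (MvPolynomial σ F), (∀ f ∈ s, f.IsHomogeneous 1) →
        ∀ P ∈ (J ⊔ Ideal.span s).minimalPrimes, P ≤ irr σ F) →
      (∀ P : Ideal (MvPolynomial σ F), P.IsPrime → J ≤ P →
        ringKrullDim (MvPolynomial σ F ⧸ P) ≤ (r : ℕ)) →
      ∃ a : Fin r → σ → k, ∀ P : Ideal (MvPolynomial σ F), P.IsPrime →
        J ⊔ Ideal.span (linSet a) ≤ P → P = irr σ F := by
  classical
  intro r
  induction r with
  | zero =>
    intro J h1 _ h3
    refine ⟨fun i => i.elim0, fun P hP hJP => ?_⟩
    obtain ⟨P0, hP0, hle⟩ := Ideal.exists_minimalPrimes_le (le_sup_left.trans hJP)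
    haveI := hP0.1.1
    have heq : P0 = irr σ F := by
      by_contra hne
      have hlt := FieldDim.dim_quotient_lt F _ P0 (irr σ F) (lt_of_le_of_ne (h1 P0 hP0) hne)
      have h0 := h3 P0 hP0.1.1 hP0.1.2
      have hnn : (0 : WithBot ℕ∞) ≤ ringKrullDim (MvPolynomial σ F ⧸ irr σ F) :=
        ringKrullDim_nonneg_of_nontrivial
      exact absurd (hlt.trans_le h0) (not_lt.mpr (by simpa using hnn))
    exact ((irr_isMaximal (σ := σ) (F := F)).eq_of_le hP.ne_top (heq ▸ hle)).symm
  | succ r ih =>
    intro J h1 h2 h3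
    -- the vectors giving a linear form in a fixed prime
    let lin : (σ → k) →ₗ[k] MvPolynomial σ F :=
      ∑ s, (LinearMap.proj s).smulRight (X s)
    have hlin : ∀ a, lin a = ∑ s, C (algebraMap k F (a s)) * X s := by
      intro a
      simp only [lin, LinearMap.sum_apply, LinearMap.smulRight_apply, LinearMap.proj_apply]
      refine Finset.sum_congr rfl fun s _ => ?_
      rw [Algebra.smul_def]; rfl
    let bad : Set (Submodule k (σ → k)) :=
      (fun P => (P.restrictScalars k).comap lin) '' {P ∈ J.minimalPrimes | P ≠ irr σ F}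
    have hfin : bad.Finite :=
      ((J.finite_minimalPrimes_of_isNoetherianRing).subset fun P hP => hP.1).image _
    have hproper : ∀ W ∈ bad, W ≠ ⊤ := by
      rintro W ⟨P, ⟨hP, hne⟩, rfl⟩ htop
      have hXP : ∀ s, (X s : MvPolynomial σ F) ∈ P := by
        intro s
        have : Pi.single s (1 : k) ∈ (P.restrictScalars k).comap lin := by
          simp only at htop
          rw [htop]; trivial
        have h' : lin (Pi.single s 1) ∈ P := this
        rw [hlin, Finset.sum_eq_single s (fun b _ hb => by simp [hb]) (by simp)] at h'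
        simpa using h'
      refine hne (le_antisymm (h1 P hP) fun f hf => ?_)
      have hspan : irr σ F ≤ Ideal.span (Set.range (X : σ → MvPolynomial σ F)) := by
        intro g hg
        rw [← Set.image_univ, mem_ideal_span_X_image]
        intro d hd
        have : d ≠ 0 := by
          rintro rfl
          exact mem_support_iff.mp hd hg
        obtain ⟨i, hi⟩ := Finsupp.ne_iff.mp this
        exact ⟨i, trivial, hi⟩
      exact Ideal.span_le.mpr (Set.range_subset_iff.mpr hXP) (hspan hf)
    haveI := hfin.to_subtype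
    obtain ⟨a, ha⟩ : ∃ a : σ → k, ∀ W ∈ bad, a ∉ W := by
      by_contra! hc
      have hcov : (⋃ W : bad, ((W.1 : Submodule k (σ → k)) : Set (σ → k))) = Set.univ := by
        refine Set.eq_univ_of_forall fun a => ?_
        obtain ⟨W, hW, haW⟩ := hc a
        exact Set.mem_iUnion.mpr ⟨⟨W, hW⟩, haW⟩
      obtain ⟨W, hW⟩ := Subspace.exists_eq_top_of_iUnion_eq_univ hcov
      exact hproper W.1 W.2 hW
    let J' := J ⊔ Ideal.span ({lin a} : Set (MvPolynomial σ F))
    have hla : (lin a).IsHomogeneous 1 := by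
      rw [hlin]
      exact IsHomogeneous.sum _ _ _ fun s _ => isHomogeneous_C_mul_X _ _
    have hdim : ∀ P : Ideal (MvPolynomial σ F), P.IsPrime → J' ≤ P →
        ringKrullDim (MvPolynomial σ F ⧸ P) ≤ (r : ℕ) := by
      intro P hP hJP
      obtain ⟨P0, hP0, hle⟩ := Ideal.exists_minimalPrimes_le (le_sup_left.trans hJP)
      haveI := hP0.1.1
      rcases eq_or_ne P0 (irr σ F) with heq | hne
      · have : P = irr σ F :=
          ((irr_isMaximal (σ := σ) (F := F)).eq_of_le hP.ne_top (heq ▸ hle)).symm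
        subst this
        letI := Ideal.Quotient.field (irr σ F)
        rw [ringKrullDim_eq_zero_of_field]
        exact_mod_cast Nat.zero_le r
      · have hlt : P0 < P := by
          refine lt_of_le_of_ne hle fun h => ?_
          refine ha _ ⟨P0, ⟨hP0, hne⟩, rfl⟩ ?_
          show lin a ∈ P0
          rw [h]
          exact hJP (Ideal.mem_sup_right (Ideal.mem_span_singleton_self _))
        have hd := (FieldDim.dim_quotient_lt F _ P0 P hlt).trans_le (h3 P0 hP0.1.1 hP0.1.2)
        obtain ⟨s, hs, -⟩ := FieldDim.exists_dim_trdeg F (MvPolynomial σ F ⧸ P)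
        rw [hs] at hd ⊢
        have : s < r + 1 := by exact_mod_cast hd
        exact_mod_cast Nat.lt_succ_iff.mp this
    have hminJ' : ∀ P ∈ J'.minimalPrimes, P ≤ irr σ F :=
      h2 {lin a} (fun f hf => by rw [Set.mem_singleton_iff.mp hf]; exact hla)
    have hlinJ' : ∀ s : Set (MvPolynomial σ F), (∀ f ∈ s, f.IsHomogeneous 1) →
        ∀ P ∈ (J' ⊔ Ideal.span s).minimalPrimes, P ≤ irr σ F := by
      intro s hs P hP
      refine h2 (insert (lin a) s) ?_ P ?_
      · rintro f (rfl | hf)
        exacts [hla, hs f hf]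
      · rwa [Ideal.span_insert, ← sup_assoc]
    obtain ⟨b, hb⟩ := ih J' hminJ' hlinJ' hdim
    refine ⟨Fin.cons a b, fun P hP hle => hb P hP (le_trans (sup_le (sup_le le_sup_left ?_) ?_) hle)⟩
    · refine le_sup_of_le_right (Ideal.span_mono ?_)
      rintro f rfl
      exact ⟨0, by simp [hlin]⟩
    · refine le_sup_of_le_right (Ideal.span_mono ?_)
      rintro f ⟨i, rfl⟩
      exact ⟨i.succ, by simp⟩

/-- For homogeneous `s`, if every prime over `(s)` has dimension `≤ r`, then `r` linear forms
with `k`-coefficients cut it down to the irrelevant point. -/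
theorem exists_linear_cut_span {k : Type} [Field k] [Infinite k] [Algebra k F] (r : ℕ)
    (s : Set (MvPolynomial σ F)) (hs : ∀ f ∈ s, ∃ i, f.IsHomogeneous i)
    (h : ∀ P : Ideal (MvPolynomial σ F), P.IsPrime → Ideal.span s ≤ P →
      ringKrullDim (MvPolynomial σ F ⧸ P) ≤ (r : ℕ)) :
    ∃ a : Fin r → σ → k, ∀ i : σ, ∃ D : ℕ,
      (X i : MvPolynomial σ F) ^ D ∈ Ideal.span (s ∪ linSet a) := by
  obtain ⟨a, ha⟩ := exists_linear_cut (k := k) r (Ideal.span s)
    (fun P hP => le_irr_of_mem_minimalPrimes hs hP)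
    (fun t ht P hP => by
      rw [← Ideal.span_union] at hP
      refine le_irr_of_mem_minimalPrimes ?_ hP
      rintro f (hf | hf)
      exacts [hs f hf, ⟨1, ht f hf⟩]) h
  refine ⟨a, fun i => ?_⟩
  have : (X i : MvPolynomial σ F) ∈ (Ideal.span (s ∪ linSet a)).radical := by
    rw [Ideal.radical_eq_sInf, Ideal.mem_sInf]
    rintro P ⟨hle, hP⟩
    rw [ha P hP (by rwa [← Ideal.span_union]), RingHom.mem_ker, constantCoeff_X]
  exact this

/-- `r` linear equations cannot lower the dimension of a homogeneous locus by more than `r`. -/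
theorem dim_le_of_X_mem_radical (s : Set (MvPolynomial σ F))
    (hs : ∀ f ∈ s, ∃ i, f.IsHomogeneous i) {r : ℕ} (ℓ : Fin r → MvPolynomial σ F)
    (hℓ : ∀ i, constantCoeff (ℓ i) = 0)
    (hX : ∀ i : σ, (X i : MvPolynomial σ F) ∈ (Ideal.span (s ∪ Set.range ℓ)).radical)
    (P : Ideal (MvPolynomial σ F)) [hP : P.IsPrime] (hle : Ideal.span s ≤ P) :
    ringKrullDim (MvPolynomial σ F ⧸ P) ≤ (r : ℕ) := by
  classical
  obtain ⟨P0, hP0, hP0le⟩ := Ideal.exists_minimalPrimes_le hle
  refine (ringKrullDim_le_of_surjective (Ideal.Quotient.factor hP0le)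
    (Ideal.Quotient.factor_surjective hP0le)).trans ?_
  haveI := hP0.1.1
  have hirr := le_irr_of_mem_minimalPrimes hs hP0
  let π := Ideal.Quotient.mk P0
  let m := (irr σ F).map π
  haveI hm : m.IsMaximal := Ideal.IsMaximal.map_of_surjective_of_ker_le (hf := Ideal.Quotient.mk_surjective)
    (by rw [Ideal.mk_ker]; exact hirr)
  have hspan : Ideal.span (Set.range (π ∘ ℓ)) ≤ m := by
    rw [Ideal.span_le]
    rintro y ⟨i, rfl⟩
    exact Ideal.mem_map_of_mem π (hℓ i)
  have hmin : m ∈ (Ideal.span (Set.range (π ∘ ℓ))).minimalPrimes := by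
    refine ⟨⟨hm.isPrime, hspan⟩, fun q hq hqm => ?_⟩
    haveI := hq.1
    have hq' : Ideal.span (s ∪ Set.range ℓ) ≤ q.comap π := by
      rw [Ideal.span_le]
      rintro y (hy | ⟨i, rfl⟩)
      · show π y ∈ q
        rw [Ideal.Quotient.eq_zero_iff_mem.mpr (hP0.1.2 (Ideal.subset_span hy))]
        exact zero_mem q
      · exact hq.2 (Ideal.subset_span ⟨i, rfl⟩)
    have hX' : ∀ i : σ, (X i : MvPolynomial σ F) ∈ q.comap π := fun i =>
      (Ideal.IsPrime.radical_le_iff (Ideal.IsPrime.comap π)).mpr hq' (hX i)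
    refine Ideal.map_le_iff_le_comap.mpr fun f hf => ?_
    have hsp : f ∈ Ideal.span (Set.range (X : σ → MvPolynomial σ F)) := by
      rw [← Set.image_univ, mem_ideal_span_X_image]
      intro d hd
      have : d ≠ 0 := by
        rintro rfl
        exact mem_support_iff.mp hd hf
      obtain ⟨i, hi⟩ := Finsupp.ne_iff.mp this
      exact ⟨i, trivial, hi⟩
    exact Ideal.span_le.mpr (Set.range_subset_iff.mpr hX') hsp
  have hh := Ideal.height_le_card_of_mem_minimalPrimes_span (Set.finite_range _) hmin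
  have hdim := FieldDim.height_add_dim_quotient F (MvPolynomial σ F ⧸ P0) m
  letI := Ideal.Quotient.field m
  rw [ringKrullDim_eq_zero_of_field, add_zero] at hdim
  rw [← hdim]
  have hcard : Nat.card (Set.range (π ∘ ℓ)) ≤ r := by
    simpa using Finite.card_range_le (π ∘ ℓ)
  have : m.height ≤ (r : ℕ∞) := by
    refine hh.trans ?_
    rw [← Nat.card_coe_set_eq]
    exact_mod_cast hcard
  exact_mod_cast this

theorem exists_prime_dim_ge {R : Type} [CommRing R] (I : Ideal R) (c : ℕ)
    (h : (c : WithBot ℕ∞) ≤ ringKrullDim (R ⧸ I)) :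
    ∃ P : Ideal R, P.IsPrime ∧ I ≤ P ∧ (c : WithBot ℕ∞) ≤ ringKrullDim (R ⧸ P) := by
  rw [ringKrullDim_quotient] at h
  obtain ⟨l, hl⟩ := Order.le_krullDim_iff.mp h
  refine ⟨l.head.1.asIdeal, l.head.1.isPrime, l.head.2, ?_⟩
  rw [ringKrullDim_quotient, Order.le_krullDim_iff]
  refine ⟨LTSeries.mk l.length (fun i => ⟨(l i).1, ?_⟩) (fun i j hij => ?_), hl⟩
  · have : l.head ≤ l i := l.monotone (Fin.zero_le i)
    exact this
  · exact l.strictMono hij

end Groth.Agent.H7HypSeq
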