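import Mathlib

/-!
A polynomial which is algebraic over `K₁(Y)` has coefficients algebraic over `K₁`; helpers for
algebraicity inside a big field.
-/

set_option autoImplicit false
universe u

namespace Groth.Agent.H7HypSeq
open MvPolynomial

theorem coeff_isAlgebraic {σ : Type} [Fintype σ] {K1 K2 : Type} [Field K1] [Infinite K1]
    [Field K2] [Algebra K1 K2] (H : MvPolynomial σ K2) (P : Polynomial (MvPolynomial σ K1))
    (hP : P ≠ 0) (hPH : P.eval₂ (MvPolynomial.map (algebraMap K1 K2)) H = 0) (γ : σ →₀ ℕ) :
    IsAlgebraic K1 (coeff γ H) := by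
  classical
  let B := algebraicClosure K1 K2
  haveI : Infinite B := Infinite.of_injective (algebraMap K1 B) (algebraMap K1 B).injective
  by_contra hc
  have hcB : coeff γ H ∉ (Submodule.span B {(1 : K2)}) := by
    intro hmem
    obtain ⟨b, hb⟩ := Submodule.mem_span_singleton.mp hmem
    refine hc (mem_algebraicClosure_iff.mp (?_ : coeff γ H ∈ B))
    rw [← hb, Algebra.smul_def, mul_one]
    exact b.2
  obtain ⟨φ, hφ1, hφ2⟩ := Submodule.exists_dual_map_eq_bot_of_notMem hcB inferInstance
  have hφB : ∀ z ∈ B, φ z = 0 := by
    intro z hz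
    have : φ z ∈ (Submodule.span B {(1 : K2)}).map φ := by
      refine Submodule.mem_map_of_mem (Submodule.mem_span_singleton.mpr ⟨⟨z, hz⟩, ?_⟩)
      rw [Algebra.smul_def, mul_one]; rfl
    rwa [hφ2, Submodule.mem_bot] at this
  let Hφ : MvPolynomial σ B := ∑ d ∈ H.support, monomial d (φ (coeff d H))
  have hHφ : coeff γ Hφ = φ (coeff γ H) := by
    simp only [Hφ, coeff_sum, coeff_monomial]
    rw [Finset.sum_ite_eq']
    split
    · rfl
    · rename_i h
      rw [notMem_support_iff.mp h, map_zero]
  let lead : MvPolynomial σ B := MvPolynomial.map (algebraMap K1 B) P.leadingCoeff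
  have hlead : lead ≠ 0 := by
    simpa [lead] using (map_injective _ (algebraMap K1 B).injective).ne
      (show P.leadingCoeff ≠ 0 from Polynomial.leadingCoeff_ne_zero.mpr hP)
  have hzero : Hφ * lead = 0 := by
    refine MvPolynomial.funext fun a => ?_
    rw [map_mul, map_zero]
    by_cases h0 : eval a lead = 0
    · rw [h0, mul_zero]
    · let aK : σ → K2 := fun i => (a i : K2)
      let ev : MvPolynomial σ K1 →+* B := (eval a).comp (MvPolynomial.map (algebraMap K1 B))
      have hev : P.map ev ≠ 0 := by
        intro h
        apply h0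
        have := congrArg (fun p => Polynomial.coeff p P.natDegree) h
        simp only [Polynomial.coeff_map, Polynomial.coeff_zero] at this
        exact this
      have halg : IsAlgebraic B (eval aK H) := by
        refine ⟨P.map ev, hev, ?_⟩
        rw [Polynomial.aeval_def, Polynomial.eval₂_map]
        have h1 := congrArg (eval aK) hPH
        rw [Polynomial.hom_eval₂, map_zero] at h1
        rw [← h1]
        congr 1
        refine MvPolynomial.ringHom_ext (fun c => ?_) (fun i => ?_)
        · simp [ev, ← IsScalarTower.algebraMap_apply]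
        · simp [ev, aK]
      haveI : Algebra.IsAlgebraic K1 B := algebraicClosure.isAlgebraic K1 K2
      have hmem : eval aK H ∈ B := mem_algebraicClosure_iff.mpr (halg.restrictScalars K1)
      have : eval a Hφ = φ (eval aK H) := by
        conv_rhs => rw [eval_eq]
        simp only [Hφ, map_sum, eval_monomial, Finsupp.prod]
        refine Finset.sum_congr rfl fun d _ => ?_
        rw [mul_comm (coeff d H), show (∏ i ∈ d.support, aK i ^ d i) * coeff d H =
            (∏ i ∈ d.support, a i ^ d i) • coeff d H by
          rw [Algebra.smul_def]; simp [aK], map_smul, smul_eq_mul, mul_comm]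
      rw [this, hφB _ hmem, zero_mul]
  have h := (mul_eq_zero.mp hzero).resolve_right hlead
  rw [h, coeff_zero] at hHφ
  exact hφ1 hHφ.symm

/-- change the base of an algebraic element along an inclusion of subsets of the big field. -/
theorem isAlgebraic_of_range_subset {R F L : Type} [CommRing R] [Field F] [Field L] [Algebra R L]
    [Algebra F L] (hinj : Function.Injective (algebraMap R L))
    (h : ∀ r : R, ∃ a : F, algebraMap F L a = algebraMap R L r) {z : L}
    (hz : IsAlgebraic R z) : IsAlgebraic F z := by
  choose g hg using h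
  have hF := (algebraMap F L).injective
  let gh : R →+* F :=
    { toFun := g
      map_one' := hF (by rw [hg, map_one, map_one])
      map_zero' := hF (by rw [hg, map_zero, map_zero])
      map_add' := fun a b => hF (by rw [hg, map_add, map_add, hg, hg])
      map_mul' := fun a b => hF (by rw [hg, map_mul, map_mul, hg, hg]) }
  obtain ⟨p, hp, hpz⟩ := hz
  refine ⟨p.map gh, (Polynomial.map_ne_zero_iff fun a b hab => hinj ?_).mpr hp, ?_⟩
  · rw [← hg a, ← hg b]; exact congrArg _ hab
  · rw [Polynomial.aeval_def, Polynomial.eval₂_map]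
    rw [Polynomial.aeval_def] at hpz
    rw [← hpz]
    congr 1
    ext r
    exact hg r

theorem algebraicIndependent_of_range_subset {R F L : Type} {ι : Type} [CommRing R] [Field F]
    [Field L] [Algebra R L] [Algebra F L] (hinj : Function.Injective (algebraMap R L))
    (h : ∀ r : R, ∃ a : F, algebraMap F L a = algebraMap R L r) {y : ι → L}
    (hy : AlgebraicIndependent F y) : AlgebraicIndependent R y := by
  choose g hg using h
  have hF := (algebraMap F L).injective
  let gh : R →+* F :=
    { toFun := g
      map_one' := hF (by rw [hg, map_one, map_one])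
      map_zero' := hF (by rw [hg, map_zero, map_zero])
      map_add' := fun a b => hF (by rw [hg, map_add, map_add, hg, hg])
      map_mul' := fun a b => hF (by rw [hg, map_mul, map_mul, hg, hg]) }
  rw [algebraicIndependent_iff_injective_aeval]
  have hcomp : ∀ p : MvPolynomial ι R, aeval y p = aeval y (MvPolynomial.map gh p) := by
    intro p
    rw [aeval_def, aeval_def, eval₂_map]
    congr 1
    ext r
    exact (hg r).symm
  intro p q hpq
  rw [hcomp, hcomp] at hpq
  exact map_injective gh (fun a b hab => hinj (by rw [← hg a, ← hg b]; exact congrArg _ hab))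
    (algebraicIndependent_iff_injective_aeval.mp hy hpq)

/-- trdeg bound from algebraic generators, checked inside a field. -/
theorem exists_trdeg_le {k R L : Type} [Field k] [CommRing R] [IsDomain R] [Algebra k R]
    [Field L] [Algebra k L] (f : R →ₐ[k] L) (hf : Function.Injective f) (S : Set R)
    (hS : Algebra.adjoin k S = ⊤) (T : Set R) (hT : T.Finite)
    (halg : ∀ r ∈ S, IsAlgebraic (IntermediateField.adjoin k (f '' T)) (f r)) :
    ∃ s : ℕ, Algebra.trdeg k R = s ∧ s ≤ T.ncard := by
  classical
  let B := algebraicClosure (IntermediateField.adjoin k (f '' T)) L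
  let B0 : Subalgebra k R := (B.restrictScalars k).toSubalgebra.comap f
  have hall : ∀ r : R, f r ∈ B := by
    intro r
    have : r ∈ B0 := by
      have hle : Algebra.adjoin k S ≤ B0 := Algebra.adjoin_le fun r hr =>
        (mem_algebraicClosure_iff.mpr (halg r hr) :)
      exact hle (hS ▸ Algebra.mem_top)
    exact this
  have hA : Algebra.IsAlgebraic (Algebra.adjoin k T) R := by
    refine ⟨fun r => ?_⟩
    have h1 : IsAlgebraic (IntermediateField.adjoin k (f '' T)) (f r) :=
      mem_algebraicClosure_iff.mp (hall r)
    have h2 : IsAlgebraic (Algebra.adjoin k (f '' T)) (f r) := by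
      letI : Algebra (Algebra.adjoin k (f '' T)) (IntermediateField.adjoin k (f '' T)) :=
        (Subalgebra.inclusion (IntermediateField.algebra_adjoin_le_adjoin k (f '' T))).toRingHom.toAlgebra
      haveI : IsFractionRing (Algebra.adjoin k (f '' T)) (IntermediateField.adjoin k (f '' T)) :=
        IntermediateField.algebraAdjoinAdjoin.instIsFractionRingSubtypeMemSubalgebraAdjoinAdjoin k (f '' T)
      haveI : IsScalarTower (Algebra.adjoin k (f '' T)) (IntermediateField.adjoin k (f '' T)) L :=
        IsScalarTower.of_algebraMap_eq fun _ => rfl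
      exact (IsFractionRing.isAlgebraic_iff (Algebra.adjoin k (f '' T))
        (IntermediateField.adjoin k (f '' T)) L).mpr h1
    obtain ⟨p, hp, hpr⟩ := h2
    have hmap : Algebra.adjoin k (f '' T) = (Algebra.adjoin k T).map f := (f.map_adjoin T).symm
    have hlift : p ∈ Polynomial.lifts (RingHom.codRestrict
        ((f : R →+* L).comp (Algebra.adjoin k T).val.toRingHom) (Algebra.adjoin k (f '' T))
        (fun x => hmap ▸ ⟨x.1, x.2, rfl⟩)) := by
      rw [Polynomial.lifts_iff_coeff_lifts]
      intro n
      obtain ⟨x, hx, hxe⟩ : (p.coeff n : L) ∈ (Algebra.adjoin k T).map f := hmap ▸ (p.coeff n).2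
      exact ⟨⟨x, hx⟩, Subtype.ext hxe⟩
    obtain ⟨q, rfl⟩ := Polynomial.mem_lifts _ |>.mp hlift
    refine ⟨q, fun h => hp (by rw [h, Polynomial.map_zero]), hf ?_⟩
    rw [map_zero, ← hpr, Polynomial.aeval_def, Polynomial.aeval_def, Polynomial.eval₂_map]
    exact Polynomial.hom_eval₂ q _ (f : R →+* L) r
  obtain ⟨t, hts, ht⟩ := exists_isTranscendenceBasis_subset (R := k) T
  haveI : Finite t := (hT.subset hts).to_subtype
  refine ⟨t.ncard, ?_, Set.ncard_le_ncard hts hT⟩
  rw [← ht.cardinalMk_eq_trdeg]
  rw [← Nat.card_coe_set_eq]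
  exact Nat.cast_card.symm

end Groth.Agent.H7HypSeq
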