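import Groth.Agent.H7HypSeq.Coord
import Groth.Agent.H7HypSeq.Indep

/-!
The chain step: either the coefficient point has few parameters, or every common zero of the first
`j` forms has at most `m + 1 - j` free coordinates over their coefficient field.
-/

set_option autoImplicit false
universe u

namespace Groth.Agent.H7HypSeq
open MvPolynomial

variable {m d : ℕ}

/-- the field generated by the coefficients of the first `j` forms. -/
noncomputable def coeffField {L : Type} [Field L] [Algebra ℂ L] (c : Idx m d → L) (j : ℕ) :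
    IntermediateField ℂ L :=
  IntermediateField.adjoin ℂ (c '' {i | i.1.1 < j})

/-- no `m + 2 - j` coordinates of a zero of the first `j` forms are independent. -/
def SmallUpTo (R : Type) [CommRing R] [Algebra ℂ R] (γ : Idx m d → R) (j : ℕ) : Prop :=
  ∀ (L : Type) [Field L] [Algebra ℂ L] (f : R →ₐ[ℂ] L), Function.Injective f →
    ∀ x : Fin (m + 1) → L, (∀ i : Fin d, i.1 < j → eval x (formOf m d (f ∘ γ) i) = 0) →
      ∀ t : Fin (m + 2 - j) → Fin (m + 1),
        ¬ AlgebraicIndependent (coeffField (f ∘ γ) j) (x ∘ t)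

theorem smallUpTo_zero (R : Type) [CommRing R] [Algebra ℂ R] (γ : Idx m d → R) :
    SmallUpTo R γ 0 := by
  intro L _ _ f _ x _ t h
  have h1 := h.injective
  have h2 := Fintype.card_le_of_injective t (fun a b hab => h1 (by simp [hab]))
  simp at h2

theorem smallUpTo_succ (R : Type) [CommRing R] [IsDomain R] [Algebra ℂ R] (γ : Idx m d → R)
    (hgen : Algebra.adjoin ℂ (Set.range γ) = ⊤) (hd : d ≤ m) (j : ℕ) (hj : j < d)
    (hP : SmallUpTo R γ j) :
    (∃ s : ℕ, Algebra.trdeg ℂ R = s ∧ s + (m + 1) ≤ Fintype.card (Idx m d)) ∨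
      SmallUpTo R γ (j + 1) := by
  classical
  by_contra hcon
  push Not at hcon
  obtain ⟨hbig, hfail⟩ := hcon
  simp only [SmallUpTo, not_forall, not_not] at hfail
  obtain ⟨L, _, _, f, hf, x, hx, t, ht⟩ := hfail
  refine absurd ?_ (by
    push Not
    exact hbig : ¬ ∃ s : ℕ, Algebra.trdeg ℂ R = s ∧ s + (m + 1) ≤ Fintype.card (Idx m d))
  set c : Idx m d → L := f ∘ γ with hc
  let e := m + 2 - (j + 1)
  have he : e = m + 2 - (j + 1) := rfl
  have he2 : 2 ≤ e := by omega
  have hej : e + j = m + 1 := by omega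
  let jj : Fin d := ⟨j, hj⟩
  let y : Fin e → L := x ∘ t
  let K2 := coeffField c (j + 1)
  let Kj := coeffField c j
  have hKj : Kj ≤ K2 :=
    IntermediateField.adjoin.mono ℂ _ _ (Set.image_mono fun i (hi : i.1.1 < j) => Nat.lt_succ_of_lt hi)
  have hyj : AlgebraicIndependent Kj y :=
    algebraicIndependent_of_range_subset (F := K2) (algebraMap Kj L).injective
      (fun r => ⟨⟨r.1, hKj r.2⟩, rfl⟩) ht
  have hxalg : ∀ i, IsAlgebraic (Algebra.adjoin Kj (Set.range y)) (x i) := by
    intro i
    by_contra hi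
    have h := (hyj.option_iff_transcendental (x i)).mpr hi
    have heq : m + 2 - j = e + 1 := by omega
    let σ : Fin (m + 2 - j) ≃ Option (Fin e) := (finCongr heq).trans (finSuccEquiv e)
    refine hP L f hf x (fun i' hi' => hx i' (Nat.lt_succ_of_lt hi'))
      ((fun o : Option (Fin e) => o.elim i t) ∘ σ) ?_
    have h' := h.comp σ σ.injective
    have hfun : x ∘ (fun o : Option (Fin e) => o.elim i t) ∘ σ =
        (fun o : Option (Fin e) => o.elim (x i) y) ∘ σ := by
      funext a
      simp only [Function.comp_apply]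
      rcases σ a with - | b <;> rfl
    rw [hfun]
    exact h'
  -- the special monomials
  let i0 : Fin e := ⟨0, by omega⟩
  let i1 : Fin e := ⟨1, by omega⟩
  have h01 : i1 ≠ i0 := by simp [i0, i1]
  let E : Fin e ⊕ Fin j → (Fin e →₀ ℕ) := Sum.elim (fun i => Finsupp.single i (j + 1))
    (fun a => Finsupp.single i0 (a.1 + 1) + Finsupp.single i1 (j - a.1))
  have hEdeg : ∀ z, (E z).degree = j + 1 := by
    rintro (i | a) <;> simp only [E, Sum.elim_inl, Sum.elim_inr, map_add, Finsupp.degree_single]
    omega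
  have hEinj : Function.Injective E := by
    rintro (i | a) (i' | a') h <;> simp only [E, Sum.elim_inl, Sum.elim_inr] at h
    · exact congr_arg _ (Finsupp.single_left_injective (by omega) h)
    · exfalso
      have h0 := DFunLike.congr_fun h i0
      have h1 := DFunLike.congr_fun h i1
      have := a'.2
      rcases eq_or_ne i i0 with rfl | hi
      · simp [Finsupp.single_eq_of_ne h01] at h1
        omega
      · simp [Finsupp.single_eq_of_ne hi.symm, Finsupp.single_eq_of_ne h01.symm] at h0
    · exfalso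
      have h0 := DFunLike.congr_fun h i0
      have h1 := DFunLike.congr_fun h i1
      have := a.2
      rcases eq_or_ne i' i0 with rfl | hi
      · simp [Finsupp.single_eq_of_ne h01] at h1
        omega
      · simp [Finsupp.single_eq_of_ne hi.symm, Finsupp.single_eq_of_ne h01.symm] at h0
    · have h0 := DFunLike.congr_fun h i0
      simp [Finsupp.single_eq_of_ne h01.symm] at h0
      exact congr_arg _ (Fin.ext (by omega))
  have htinj : Function.Injective t := fun a b hab => ht.injective (by simp [hab])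
  let sE : Fin e ⊕ Fin j → Idx m d := fun z =>
    ⟨jj, ⟨(E z).mapDomain t, by rw [Finsupp.degree_mapDomain]; exact hEdeg z⟩⟩
  have hsinj : Function.Injective sE := by
    intro a b hab
    refine hEinj (Finsupp.mapDomain_injective htinj ?_)
    simpa [sE] using hab
  -- the fields
  let K1 := IntermediateField.adjoin ℂ (c '' {i | i.1.1 < j + 1 ∧ i ∉ Set.range sE})
  have hK12 : K1 ≤ K2 :=
    IntermediateField.adjoin.mono ℂ _ _ (Set.image_mono fun i hi => hi.1)
  have hKj1 : Kj ≤ K1 := by
    refine IntermediateField.adjoin.mono ℂ _ _ (Set.image_mono fun i (hi : i.1.1 < j) => ⟨by omega, ?_⟩)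
    rintro ⟨z, rfl⟩
    exact absurd hi (lt_irrefl j)
  have hy1 : AlgebraicIndependent K1 y :=
    algebraicIndependent_of_range_subset (F := K2) (algebraMap K1 L).injective
      (fun r => ⟨⟨r.1, hK12 r.2⟩, rfl⟩) ht
  let F1 := IntermediateField.adjoin K1 (Set.range y)
  have hbase : ∀ r : Algebra.adjoin Kj (Set.range y), ∃ a : F1, (a : L) = r := by
    rintro ⟨r, hr⟩
    refine ⟨⟨r, ?_⟩, rfl⟩
    induction hr using Algebra.adjoin_induction with
    | mem z hz => exact IntermediateField.subset_adjoin K1 _ hz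
    | algebraMap z => exact F1.algebraMap_mem (⟨z.1, hKj1 z.2⟩ : K1)
    | add a b _ _ ha hb => exact F1.add_mem ha hb
    | mul a b _ _ ha hb => exact F1.mul_mem ha hb
  let B1 := algebraicClosure F1 L
  have hxB : ∀ i, x i ∈ B1 := fun i => mem_algebraicClosure_iff.mpr
    (isAlgebraic_of_range_subset (fun a b hab => Subtype.ext hab) hbase (hxalg i))
  have hcB : ∀ i : Idx m d, i.1.1 < j + 1 → i ∉ Set.range sE → c i ∈ B1 := fun i h1 h2 =>
    B1.algebraMap_mem (⟨c i, F1.algebraMap_mem (⟨c i, IntermediateField.subset_adjoin ℂ _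
      ⟨i, ⟨h1, h2⟩, rfl⟩⟩ : K1)⟩ : F1)
  -- the combination of the special monomials is algebraic
  let ex : Fin e ⊕ Fin j → {γ' : Fin (m + 1) →₀ ℕ // γ'.degree = jj.1 + 1} := fun z => (sE z).2
  have hexinj : Function.Injective ex := fun a b hab =>
    hsinj (Sigma.ext rfl (heq_of_eq hab))
  let h : L := ∑ z, c (sE z) * ∏ i, y i ^ E z i
  have hterm : ∀ z, eval x (monomial (ex z).1 (c (sE z))) = c (sE z) * ∏ i, y i ^ E z i := by
    intro z
    rw [eval_monomial]
    congr 1
    show ((E z).mapDomain t).prod (fun n e => x n ^ e) = _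
    rw [Finsupp.prod_mapDomain_index_inj htinj, Finsupp.prod_fintype _ _ (fun _ => pow_zero _)]
    rfl
  have hhB : h ∈ B1 := by
    have h0 : eval x (formOf m d c jj) = 0 := hx jj (Nat.lt_succ_self j)
    rw [formOf, map_sum, ← Finset.sum_compl_add_sum (Finset.univ.image ex),
      Finset.sum_image (fun a _ b _ hab => hexinj hab)] at h0
    have hrest : ∑ z, eval x (monomial (ex z).1 (c ⟨jj, ex z⟩)) = h :=
      Finset.sum_congr rfl fun z _ => hterm z
    rw [hrest] at h0
    rw [show h = -∑ γ' ∈ (Finset.univ.image ex)ᶜ, eval x (monomial γ'.1 (c ⟨jj, γ'⟩)) from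
      eq_neg_of_add_eq_zero_right h0]
    refine B1.neg_mem (B1.sum_mem fun γ' hγ' => ?_)
    rw [eval_monomial]
    refine B1.mul_mem (hcB _ (Nat.lt_succ_self j) ?_) (B1.prod_mem fun i _ => show x i ^ γ'.1 i ∈ B1 from pow_mem (hxB i) _)
    rintro ⟨z, hz⟩
    simp only [Finset.mem_compl, Finset.mem_image, Finset.mem_univ, true_and] at hγ'
    exact hγ' ⟨z, by simpa [sE, ex] using hz⟩
  have hhalg : IsAlgebraic (Algebra.adjoin K1 (Set.range y)) h := by
    letI : Algebra (Algebra.adjoin K1 (Set.range y)) F1 :=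
      (Subalgebra.inclusion (IntermediateField.algebra_adjoin_le_adjoin K1 (Set.range y))).toRingHom.toAlgebra
    haveI : IsFractionRing (Algebra.adjoin K1 (Set.range y)) F1 :=
      IntermediateField.algebraAdjoinAdjoin.instIsFractionRingSubtypeMemSubalgebraAdjoinAdjoin K1 (Set.range y)
    haveI : IsScalarTower (Algebra.adjoin K1 (Set.range y)) F1 L :=
      IsScalarTower.of_algebraMap_eq fun _ => rfl
    exact (IsFractionRing.isAlgebraic_iff (Algebra.adjoin K1 (Set.range y)) F1 L).mpr
      (mem_algebraicClosure_iff.mp hhB)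
  obtain ⟨p, hp, hph⟩ := hhalg
  let P := p.map (hy1.aevalEquiv.symm.toAlgHom.toRingHom)
  have hP0 : P ≠ 0 := (Polynomial.map_ne_zero_iff hy1.aevalEquiv.symm.injective).mpr hp
  have hcK2 : ∀ z, c (sE z) ∈ K2 := fun z =>
    IntermediateField.subset_adjoin ℂ _ ⟨sE z, Nat.lt_succ_self j, rfl⟩
  letI : Algebra K1 K2 := (IntermediateField.inclusion hK12).toRingHom.toAlgebra
  let H : MvPolynomial (Fin e) K2 := ∑ z, monomial (E z) ⟨c (sE z), hcK2 z⟩
  have hH : aeval y H = h := by
    simp only [H, map_sum, aeval_monomial]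
    refine Finset.sum_congr rfl fun z _ => ?_
    rw [Finsupp.prod_fintype _ _ (fun _ => pow_zero _)]
    rfl
  have hPH : P.eval₂ (MvPolynomial.map (algebraMap K1 K2)) H = 0 := by
    apply (algebraicIndependent_iff_injective_aeval.mp ht)
    rw [map_zero, ← hph, Polynomial.aeval_def]
    show (aeval y : MvPolynomial (Fin e) K2 →ₐ[K2] L).toRingHom _ = _
    rw [Polynomial.hom_eval₂, Polynomial.eval₂_map]
    congr 1
    · refine RingHom.ext fun r => ?_
      obtain ⟨q, rfl⟩ := hy1.aevalEquiv.surjective r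
      show aeval y (MvPolynomial.map (algebraMap K1 K2)
        (hy1.aevalEquiv.symm (hy1.aevalEquiv q))) = (hy1.aevalEquiv q : L)
      rw [AlgEquiv.symm_apply_apply]
      show aeval y (MvPolynomial.map (algebraMap K1 K2) q) = (hy1.aevalEquiv q : L)
      rw [show (hy1.aevalEquiv q : L) = aeval y q from hy1.algebraMap_aevalEquiv q]
      rw [aeval_def, eval₂_map, aeval_def]
      rfl
  haveI : Infinite K1 := Infinite.of_injective (algebraMap ℂ K1) (algebraMap ℂ K1).injective
  have hsp : ∀ z, IsAlgebraic K1 (c (sE z)) := by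
    intro z
    have := coeff_isAlgebraic H P hP0 hPH (E z)
    have hco : coeff (E z) H = (⟨c (sE z), hcK2 z⟩ : K2) := by
      simp only [H, coeff_sum, coeff_monomial]
      rw [Finset.sum_eq_single z]
      · simp
      · intro b _ hb
        rw [if_neg fun h => hb (hEinj h)]
      · simp
    rw [hco] at this
    obtain ⟨q, hq, hq0⟩ := this
    refine ⟨q, hq, ?_⟩
    have h2 := congrArg (K2.val.toRingHom) hq0
    rw [map_zero, Polynomial.aeval_def, Polynomial.hom_eval₂] at h2
    rw [Polynomial.aeval_def, ← h2]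
    rfl
  let T : Set R := γ '' (Set.range sE)ᶜ
  have hK1T : K1 ≤ IntermediateField.adjoin ℂ (f '' T) := by
    refine IntermediateField.adjoin.mono ℂ _ _ ?_
    rintro _ ⟨i, ⟨_, hi⟩, rfl⟩
    exact ⟨γ i, ⟨i, hi, rfl⟩, rfl⟩
  obtain ⟨s, hs, hsle⟩ := exists_trdeg_le f hf (Set.range γ) hgen T (Set.toFinite _) (by
    rintro _ ⟨i, rfl⟩
    by_cases hi : i ∈ Set.range sE
    · obtain ⟨z, rfl⟩ := hi
      exact isAlgebraic_of_range_subset (algebraMap K1 L).injective
        (fun r => ⟨⟨r.1, hK1T r.2⟩, rfl⟩) (hsp z)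
    · exact isAlgebraic_algebraMap
        (⟨f (γ i), IntermediateField.subset_adjoin ℂ _ ⟨γ i, ⟨i, hi, rfl⟩, rfl⟩⟩ :
          IntermediateField.adjoin ℂ (f '' T)))
  refine ⟨s, hs, ?_⟩
  have h1 : T.ncard ≤ ((Set.range sE)ᶜ).ncard := Set.ncard_image_le (Set.toFinite _)
  rw [Set.ncard_compl, Set.ncard_range_of_injective hsinj, Nat.card_eq_fintype_card,
    Nat.card_eq_fintype_card, Fintype.card_sum, Fintype.card_fin, Fintype.card_fin, hej] at h1
  have h2 : m + 1 ≤ Fintype.card (Idx m d) := by
    have := Fintype.card_le_of_injective sE hsinj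
    rwa [Fintype.card_sum, Fintype.card_fin, Fintype.card_fin, hej] at this
  omega

/-- Either few parameters, or small zero loci all the way. -/
theorem trdeg_le_or_smallUpTo (R : Type) [CommRing R] [IsDomain R] [Algebra ℂ R]
    (γ : Idx m d → R) (hgen : Algebra.adjoin ℂ (Set.range γ) = ⊤) (hd : d ≤ m) :
    (∃ s : ℕ, Algebra.trdeg ℂ R = s ∧ s + (m + 1) ≤ Fintype.card (Idx m d)) ∨
      SmallUpTo R γ d := by
  suffices ∀ j ≤ d, (∃ s : ℕ, Algebra.trdeg ℂ R = s ∧ s + (m + 1) ≤ Fintype.card (Idx m d)) ∨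
      SmallUpTo R γ j from this d le_rfl
  intro j hj
  induction j with
  | zero => exact Or.inr (smallUpTo_zero R γ)
  | succ j ih =>
    rcases ih (Nat.le_of_succ_le hj) with h | h
    · exact Or.inl h
    · exact smallUpTo_succ R γ hgen hd j hj h

end Groth.Agent.H7HypSeq
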