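import Groth.Agent.H7HypSeq.Homog
import Groth.Agent.H7HypSeq.Step

/-!
The tuples of forms with too big a common zero locus: every component has few parameters.
-/

set_option autoImplicit false
universe u

namespace Groth.Agent.H7HypSeq
open MvPolynomial
open Groth.Agent.H8Props

variable {m d : ℕ}

/-- the bad tuples. -/
def badSet (m d : ℕ) : Set (Tup m d ℂ) :=
  {G | ((m + 2 - d : ℕ) : WithBot ℕ∞) ≤ ringKrullDim (MvPolynomial (Fin (m + 1)) ℂ ⧸
    Ideal.span (Set.range fun j : Fin d => (G j).1))}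

/-- polynomials in the coefficients vanishing on the bad tuples. -/
noncomputable def badIdeal (m d : ℕ) : Ideal (MvPolynomial (Idx m d) ℂ) where
  carrier := {P | ∀ G ∈ badSet m d, eval (coord G) P = 0}
  add_mem' ha hb G hG := by rw [map_add, ha G hG, hb G hG, add_zero]
  zero_mem' G _ := map_zero _
  smul_mem' c P hP G hG := by rw [smul_eq_mul, map_mul, hP G hG, mul_zero]

theorem mem_badIdeal {P : MvPolynomial (Idx m d) ℂ} :
    P ∈ badIdeal m d ↔ ∀ G ∈ badSet m d, eval (coord G) P = 0 := Iff.rfl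

theorem badIdeal_isRadical : (badIdeal m d).IsRadical := by
  rintro P ⟨n, hn⟩ G hG
  have := hn G hG
  rw [map_pow] at this
  exact eq_zero_of_pow_eq_zero this

/-- clearing denominators in the span of images. -/
theorem exists_clear {σ A K : Type} [CommRing A] [IsDomain A] [Field K]
    (φ : A →+* K) (Q : Ideal A) (hker : RingHom.ker φ = Q)
    (hfrac : ∀ z : K, ∃ a s : A, s ∉ Q ∧ φ s * z = φ a)
    (gens : Set (MvPolynomial σ A)) (z : MvPolynomial σ K)
    (hz : z ∈ Ideal.span (MvPolynomial.map φ '' gens)) :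
    ∃ s ∉ Q, ∃ w ∈ Ideal.span gens, C (φ s) * z = MvPolynomial.map φ w := by
  haveI : Q.IsPrime := hker ▸ RingHom.ker_isPrime φ
  have hall : ∀ b : MvPolynomial σ K, ∃ s ∉ Q, ∃ b', C (φ s) * b = MvPolynomial.map φ b' := by
    intro b
    induction b using MvPolynomial.induction_on' with
    | monomial γ a =>
      obtain ⟨a', s, hs, he⟩ := hfrac a
      exact ⟨s, hs, monomial γ a', by rw [C_mul_monomial, map_monomial, he]⟩
    | add p q hp hq =>
      obtain ⟨s, hs, p', hp⟩ := hp
      obtain ⟨t, ht, q', hq⟩ := hq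
      refine ⟨s * t, fun h => (Ideal.IsPrime.mem_or_mem ‹_› h).elim hs ht,
        C t * p' + C s * q', ?_⟩
      rw [map_mul, C_mul, map_add, map_mul, map_mul, map_C, map_C, ← hp, ← hq]
      ring
  induction hz using Submodule.span_induction with
  | mem y hy =>
    obtain ⟨g, hg, rfl⟩ := hy
    exact ⟨1, fun h => Ideal.IsPrime.ne_top ‹_› (Q.eq_top_iff_one.mpr h), g,
      Ideal.subset_span hg, by rw [map_one, C_1, one_mul]⟩
  | zero =>
    exact ⟨1, fun h => Ideal.IsPrime.ne_top ‹_› (Q.eq_top_iff_one.mpr h), 0, zero_mem _, by simp⟩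
  | add p q _ _ hp hq =>
    obtain ⟨s, hs, p', hp', hp⟩ := hp
    obtain ⟨t, ht, q', hq', hq⟩ := hq
    refine ⟨s * t, fun h => (Ideal.IsPrime.mem_or_mem ‹_› h).elim hs ht, C t * p' + C s * q',
      add_mem (Ideal.mul_mem_left _ _ hp') (Ideal.mul_mem_left _ _ hq'), ?_⟩
    rw [map_mul, C_mul, map_add, map_mul, map_mul, map_C, map_C, ← hp, ← hq]
    ring
  | smul b p _ hp =>
    obtain ⟨s, hs, p', hp', hp⟩ := hp
    obtain ⟨t, ht, b', hb⟩ := hall b
    refine ⟨s * t, fun h => (Ideal.IsPrime.mem_or_mem ‹_› h).elim hs ht, b' * p',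
      Ideal.mul_mem_left _ _ hp', ?_⟩
    rw [map_mul, C_mul, map_mul, ← hp, ← hb, smul_eq_mul]
    ring

theorem exists_linSet_eq_map {A K : Type} [CommRing A] [Algebra ℂ A] [Field K] [Algebra ℂ K]
    (φ : A →ₐ[ℂ] K) {e : ℕ} (a : Fin e → Fin (m + 1) → ℂ) :
    (linSet a : Set (MvPolynomial (Fin (m + 1)) K)) = MvPolynomial.map φ.toRingHom ''
      (Set.range fun i => ∑ s, C (algebraMap ℂ A (a i s)) * X s) := by
  rw [← Set.range_comp]
  refine congrArg Set.range (funext fun i => ?_)
  simp [map_sum]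

/-- small zero loci over the coefficient field give small dimension. -/
theorem dim_le_of_smallUpTo (hd : d ≤ m) {R K : Type} [CommRing R] [Algebra ℂ R] [Field K]
    [Algebra ℂ K] (γ : Idx m d → R) (hsmall : SmallUpTo R γ d) (f : R →ₐ[ℂ] K)
    (hf : Function.Injective f) (P : Ideal (MvPolynomial (Fin (m + 1)) K)) [hP : P.IsPrime]
    (hgP : Ideal.span (Set.range (formOf m d (f ∘ γ))) ≤ P) :
    ringKrullDim (MvPolynomial (Fin (m + 1)) K ⧸ P) ≤ ((m + 1 - d : ℕ) : WithBot ℕ∞) := by
  haveI : Algebra.FiniteType K (MvPolynomial (Fin (m + 1)) K ⧸ P) :=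
    Algebra.FiniteType.of_surjective (Ideal.Quotient.mkₐ K P) Ideal.Quotient.mk_surjective
  obtain ⟨s, hs, hs'⟩ := FieldDim.exists_dim_trdeg K (MvPolynomial (Fin (m + 1)) K ⧸ P)
  rw [hs]
  by_contra hlt
  have hlt' : m + 1 - d < s := by
    by_contra h
    exact hlt (by exact_mod_cast not_lt.mp h)
  let xb : Fin (m + 1) → (MvPolynomial (Fin (m + 1)) K ⧸ P) := fun i => Ideal.Quotient.mkₐ K P (X i)
  have hadj : Algebra.adjoin K (Set.range xb) = ⊤ := by
    rw [show Set.range xb = Ideal.Quotient.mkₐ K P '' Set.range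
        (X : Fin (m + 1) → MvPolynomial (Fin (m + 1)) K) by rw [← Set.range_comp]; rfl,
      ← AlgHom.map_adjoin, adjoin_range_X, Algebra.map_top,
      (AlgHom.range_eq_top _).mpr Ideal.Quotient.mk_surjective]
  haveI : Algebra.IsAlgebraic (Algebra.adjoin K (Set.range xb)) (MvPolynomial (Fin (m + 1)) K ⧸ P) :=
    ⟨fun x => isAlgebraic_algebraMap
      (⟨x, hadj ▸ Algebra.mem_top⟩ : Algebra.adjoin K (Set.range xb))⟩
  obtain ⟨t, hts, ht⟩ := exists_isTranscendenceBasis_subset (R := K) (Set.range xb)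
  haveI : Finite t := ((Set.finite_range _).subset hts).to_subtype
  have hcard : Nat.card t = s := by
    have h := congr_arg Cardinal.toNat (ht.cardinalMk_eq_trdeg.trans hs')
    rwa [Cardinal.toNat_natCast] at h
  haveI := Fintype.ofFinite t
  obtain ⟨σ⟩ : Nonempty (Fin (m + 2 - d) ↪ t) := Function.Embedding.nonempty_of_card_le (by
    rw [Fintype.card_fin, ← Nat.card_eq_fintype_card, hcard]; omega)
  choose idx hidx using fun i : Fin (m + 2 - d) => hts (σ i).2
  classical
  let L := FractionRing (MvPolynomial (Fin (m + 1)) K ⧸ P)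
  let x : Fin (m + 1) → L := fun i => algebraMap (MvPolynomial (Fin (m + 1)) K ⧸ P) L (xb i)
  let fL : R →ₐ[ℂ] L := (IsScalarTower.toAlgHom ℂ K L).comp f
  have hfL : Function.Injective fL :=
    (algebraMap K L).injective.comp (hf)
  refine hsmall L fL hfL x (fun i _ => ?_) idx ?_
  · have h0 : Ideal.Quotient.mkₐ K P (formOf m d (f ∘ γ) i) = 0 :=
      Ideal.Quotient.eq_zero_iff_mem.mpr (hgP (Ideal.subset_span ⟨i, rfl⟩))
    have key : ∀ z : MvPolynomial (Fin (m + 1)) K, eval x (MvPolynomial.map (algebraMap K L) z) =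
        algebraMap (MvPolynomial (Fin (m + 1)) K ⧸ P) L (Ideal.Quotient.mkₐ K P z) := by
      intro z
      rw [eval_map, ← aeval_def]
      have hh : (aeval x : MvPolynomial (Fin (m + 1)) K →ₐ[K] L) =
          (IsScalarTower.toAlgHom K (MvPolynomial (Fin (m + 1)) K ⧸ P) L).comp (Ideal.Quotient.mkₐ K P) :=
        MvPolynomial.algHom_ext fun j => by simp [x, xb]
      rw [hh]; rfl
    have := key (formOf m d (f ∘ γ) i)
    rw [h0, map_zero, map_formOf] at this
    exact this
  · have hindB : AlgebraicIndependent K (fun i => xb (idx i)) := by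
      have : (fun i => xb (idx i)) = ((↑) : t → (MvPolynomial (Fin (m + 1)) K ⧸ P)) ∘ σ := funext fun i => hidx i
      rw [this]
      exact ht.1.comp σ σ.injective
    have hindL : AlgebraicIndependent K (x ∘ idx) :=
      hindB.map' (f := IsScalarTower.toAlgHom K (MvPolynomial (Fin (m + 1)) K ⧸ P) L) (IsFractionRing.injective (MvPolynomial (Fin (m + 1)) K ⧸ P) L)
    refine algebraicIndependent_of_range_subset (F := K)
      (algebraMap (coeffField (fL ∘ γ) d) L).injective (fun r => ?_) hindL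
    have hle : coeffField (fL ∘ γ) d ≤ (IsScalarTower.toAlgHom ℂ K L).fieldRange := by
      refine IntermediateField.adjoin_le_iff.mpr ?_
      rintro _ ⟨i, -, rfl⟩
      exact ⟨f (γ i), rfl⟩
    obtain ⟨a, ha⟩ := hle r.2
    exact ⟨a, ha⟩

/-- Each component of the bad set has at most `N - (m + 1)` parameters. -/
theorem exists_trdeg_le_of_minimal (hd : d + 2 ≤ m) (Q : Ideal (MvPolynomial (Idx m d) ℂ))
    (hQ : Q ∈ (badIdeal m d).minimalPrimes) :
    ∃ s : ℕ, Algebra.trdeg ℂ (MvPolynomial (Idx m d) ℂ ⧸ Q) = s ∧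
      s + (m + 1) ≤ Fintype.card (Idx m d) := by
  classical
  haveI := hQ.1.1
  let A := MvPolynomial (Idx m d) ℂ
  let R := A ⧸ Q
  haveI : IsDomain R := Ideal.Quotient.isDomain Q
  let π : A →ₐ[ℂ] R := Ideal.Quotient.mkₐ ℂ Q
  let γ : Idx m d → R := fun i => π (X i)
  have hgen : Algebra.adjoin ℂ (Set.range γ) = ⊤ := by
    rw [show Set.range γ = π '' Set.range (X : Idx m d → A) by rw [← Set.range_comp]; rfl,
      ← AlgHom.map_adjoin, adjoin_range_X, Algebra.map_top,
      (AlgHom.range_eq_top _).mpr Ideal.Quotient.mk_surjective]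
  rcases trdeg_le_or_smallUpTo R γ hgen (by omega) with h | hsmall
  · exact h
  exfalso
  let K := FractionRing R
  let f : R →ₐ[ℂ] K := IsScalarTower.toAlgHom ℂ R K
  let φ : A →ₐ[ℂ] K := f.comp π
  let g : Fin d → MvPolynomial (Fin (m + 1)) K := formOf m d (fun i => φ (X i))
  -- every prime over the generic tuple is small
  have hdim : ∀ P : Ideal (MvPolynomial (Fin (m + 1)) K), P.IsPrime →
      Ideal.span (Set.range g) ≤ P →
        ringKrullDim (MvPolynomial (Fin (m + 1)) K ⧸ P) ≤ ((m + 1 - d : ℕ) : WithBot ℕ∞) :=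
    fun P hP hgP => @dim_le_of_smallUpTo m d (by omega) R K _ _ _ _ γ hsmall f
      (IsFractionRing.injective R K) P hP hgP
  -- cut to the origin
  obtain ⟨a, ha⟩ := exists_linear_cut_span (k := ℂ) (m + 1 - d) (Set.range g)
    (by rintro _ ⟨j, rfl⟩; exact ⟨_, formOf_isHomogeneous m d _ j⟩) hdim
  choose D hD using ha
  let ℓA : Fin (m + 1 - d) → MvPolynomial (Fin (m + 1)) A :=
    fun i => ∑ s, C (algebraMap ℂ A (a i s)) * X s
  let gA : Fin d → MvPolynomial (Fin (m + 1)) A := formOf m d X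
  let gens : Set (MvPolynomial (Fin (m + 1)) A) := Set.range gA ∪ Set.range ℓA
  have himg : Set.range g ∪ linSet a = MvPolynomial.map φ.toRingHom '' gens := by
    rw [Set.image_union, exists_linSet_eq_map φ a, ← Set.range_comp, ← Set.range_comp]
    congr 2
    funext j
    exact (map_formOf m d φ.toRingHom X j).symm
  have hker : RingHom.ker φ.toRingHom = Q := by
    ext z
    simp only [RingHom.mem_ker]
    show f (π z) = 0 ↔ _
    rw [map_eq_zero_iff f (IsFractionRing.injective R K)]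
    exact Ideal.Quotient.eq_zero_iff_mem
  have hfrac : ∀ z : K, ∃ a s : A, s ∉ Q ∧ φ s * z = φ a := by
    intro z
    obtain ⟨p, q, hq, rfl⟩ := IsFractionRing.div_surjective (A := R) z
    obtain ⟨p, rfl⟩ := Ideal.Quotient.mk_surjective p
    obtain ⟨q, rfl⟩ := Ideal.Quotient.mk_surjective q
    refine ⟨p, q, fun h => nonZeroDivisors.ne_zero hq (Ideal.Quotient.eq_zero_iff_mem.mpr h), ?_⟩
    show algebraMap R K (Ideal.Quotient.mk Q q) * _ = _
    rw [mul_div_cancel₀ _ (by
      simpa [map_eq_zero_iff _ (IsFractionRing.injective R K)] using nonZeroDivisors.ne_zero hq)]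
    rfl
  have hclear := fun i => exists_clear φ.toRingHom Q hker hfrac gens ((X i) ^ D i)
    (himg ▸ hD i)
  choose s hsQ w hw hsw using hclear
  -- a polynomial cutting out Q away from the other components
  have hfin := (badIdeal m d).finite_minimalPrimes_of_isNoetherianRing
  obtain ⟨ν, hνall, hνQ⟩ : ∃ ν : A, (∀ P ∈ (badIdeal m d).minimalPrimes, P ≠ Q → ν ∈ P) ∧
      ν ∉ Q := by
    by_contra! hc
    have hle : (hfin.toFinset.erase Q).inf id ≤ Q := by
      intro v hv
      refine hc v fun P hP hne => ?_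
      exact (Finset.inf_le (f := id) (Finset.mem_erase.mpr ⟨hne, hfin.mem_toFinset.mpr hP⟩)) hv
    obtain ⟨P, hP, hPQ⟩ := (Ideal.IsPrime.inf_le' hQ.1.1).mp hle
    obtain ⟨hne, hP⟩ := Finset.mem_erase.mp hP
    have hPm := hfin.mem_toFinset.mp hP
    exact hne (le_antisymm hPQ (hQ.2 hPm.1 hPQ))
  let μ : A := ν * ∏ i, s i
  have hμQ : μ ∉ Q := by
    intro h
    rcases Ideal.IsPrime.mem_or_mem hQ.1.1 h with h | h
    · exact hνQ h
    · obtain ⟨i, -, hi⟩ := (Ideal.IsPrime.prod_mem_iff (p := Q)).mp h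
      exact hsQ i hi
  refine hμQ (hQ.1.2 fun G hG => ?_)
  by_contra hne
  simp only [μ, map_mul, map_prod] at hne
  obtain ⟨hne1, hne2⟩ := mul_ne_zero_iff.mp hne
  have hpt : ∀ q ∈ Q, eval (coord G) q = 0 := by
    intro q hq
    have hmem : ν * q ∈ badIdeal m d := by
      rw [← badIdeal_isRadical.radical, ← Ideal.sInf_minimalPrimes, Ideal.mem_sInf]
      intro P hP
      rcases eq_or_ne P Q with rfl | h
      · exact Ideal.mul_mem_left _ _ hq
      · exact Ideal.mul_mem_right _ _ (hνall P hP h)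
    have := hmem G hG
    rw [map_mul] at this
    exact (mul_eq_zero.mp this).resolve_left hne1
  obtain ⟨P, hP, hGP, hPdim⟩ := exists_prime_dim_ge _ _ hG
  haveI := hP
  let ev : MvPolynomial (Fin (m + 1)) A →+* MvPolynomial (Fin (m + 1)) ℂ :=
    MvPolynomial.map (eval (coord G))
  let ℓ : Fin (m + 1 - d) → MvPolynomial (Fin (m + 1)) ℂ := fun i => ev (ℓA i)
  have hX : ∀ i, (X i : MvPolynomial (Fin (m + 1)) ℂ) ∈
      (Ideal.span (Set.range (fun j => (G j).1) ∪ Set.range ℓ)).radical := by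
    intro i
    refine ⟨D i, ?_⟩
    have hev : ev (w i) ∈ Ideal.span (Set.range (fun j => (G j).1) ∪ Set.range ℓ) := by
      have := Ideal.mem_map_of_mem ev (hw i)
      rw [Ideal.map_span, Set.image_union, ← Set.range_comp, ← Set.range_comp] at this
      convert this using 4
      · funext j
        show (G j).1 = ev (gA j)
        rw [← formOf_coord G j]
        refine ((map_formOf m d (eval (coord G)) X j).trans ?_).symm
        congr 1
        funext i
        simp
      · rfl
    have hdiff : ev (w i) = ev (C (s i) * X i ^ D i) := by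
      refine MvPolynomial.ext _ _ fun n => ?_
      simp only [ev, coeff_map]
      rw [← sub_eq_zero, ← map_sub]
      refine hpt _ ?_
      rw [← hker, RingHom.mem_ker, map_sub, ← coeff_map, ← coeff_map, sub_eq_zero, ← hsw i,
        map_mul, map_C, map_pow, map_X]
    rw [hdiff] at hev
    simp only [ev, map_mul, map_C, map_pow, map_X] at hev
    have hu : IsUnit (C (eval (coord G) (s i)) : MvPolynomial (Fin (m + 1)) ℂ) :=
      (isUnit_iff_ne_zero.mpr (Finset.prod_ne_zero_iff.mp hne2 i (Finset.mem_univ _))).map C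
    exact (Ideal.unit_mul_mem_iff_mem _ hu).mp hev
  have hle := dim_le_of_X_mem_radical (Set.range fun j => (G j).1)
    (by rintro _ ⟨j, rfl⟩; exact ⟨_, (G j).2⟩) ℓ
    (fun i => by simp [ℓ, ℓA, ev]) hX P hGP
  have := hPdim.trans hle
  have : m + 2 - d ≤ m + 1 - d := by exact_mod_cast this
  omega

/-- The coordinate form of the codimension bound. -/
theorem height_badIdeal (hd : d + 2 ≤ m) : ((m + 1 : ℕ) : ℕ∞) ≤ (badIdeal m d).height := by
  rw [Ideal.height_eq_inf_minimalPrimes]
  refine le_iInf₂ fun Q hQ => ?_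
  haveI := hQ.1.1
  obtain ⟨s, hs, hle⟩ := exists_trdeg_le_of_minimal hd Q hQ
  let A := MvPolynomial (Idx m d) ℂ
  haveI : Algebra.FiniteType ℂ (A ⧸ Q) :=
    Algebra.FiniteType.of_surjective (Ideal.Quotient.mkₐ ℂ Q) Ideal.Quotient.mk_surjective
  obtain ⟨s', hs1, hs2⟩ := FieldDim.exists_dim_trdeg ℂ (A ⧸ Q)
  obtain rfl : s' = s := by exact_mod_cast hs2.symm.trans hs
  have h := FieldDim.height_add_dim_quotient ℂ A Q
  rw [hs1, MvPolynomial.ringKrullDim_of_isNoetherianRing, ringKrullDim_eq_zero_of_field,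
    zero_add, Nat.card_eq_fintype_card] at h
  rcases eq_or_ne Q.height ⊤ with htop | hne
  · rw [htop]; exact le_top
  · obtain ⟨q, hq⟩ := ENat.ne_top_iff_exists.mp hne
    rw [← hq] at h ⊢
    have h' : q + s' = Fintype.card (Idx m d) := by exact_mod_cast h
    exact_mod_cast (by omega : m + 1 ≤ q)

end Groth.Agent.H7HypSeq
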